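import Mathlib
import Cfsg.Agent.H176.NFBase

/-!
# The group theoretic part for `PSU₃(5)` (helper450, for S5773)

`A` acts on `126` points, `I ⊴ A` of order `126000` and index `6` is 2-transitive.
-/

set_option autoImplicit false

namespace Cfsg.Agent.H450.NF

open Subgroup MulAction

variable {A : Type*} [Group A] [Finite A] {Ω : Type*} [MulAction A Ω] [Finite Ω]

omit [Finite A] [Finite Ω] in
/-- Orbits of subgroups. -/
theorem orb (S : Subgroup A) (α : Ω) :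
    Nat.card {β : Ω | ∃ s ∈ S, s • α = β} * Nat.card ↥(S ⊓ stabilizer A α) = Nat.card S := by
  have h1 := Subgroup.index_mul_card (stabilizer ↥S α)
  rw [MulAction.index_stabilizer] at h1
  have h2 : (orbit ↥S α) = {β : Ω | ∃ s ∈ S, s • α = β} := by
    ext β
    constructor
    · rintro ⟨s, hs⟩
      exact ⟨s, s.2, hs⟩
    · rintro ⟨s, hs, h⟩
      exact ⟨⟨s, hs⟩, h⟩
  have h3 : Nat.card ↥(stabilizer ↥S α) = Nat.card ↥(S ⊓ stabilizer A α) := by
    have h4 : stabilizer ↥S α = (stabilizer A α).subgroupOf S := rfl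
    rw [h4, ← Subgroup.card_map_of_injective S.subtype_injective, Subgroup.subgroupOf_map_subtype, inf_comm]
  rw [h2, h3] at h1
  exact h1

theorem card_ne (h : Nat.card Ω = 126) (ω : Ω) : Nat.card {β : Ω | β ≠ ω} = 125 := by
  have h1 := Set.ncard_add_ncard_compl ({ω} : Set Ω)
  rw [Set.ncard_singleton, h] at h1
  have h2 : ({ω} : Set Ω)ᶜ = {β : Ω | β ≠ ω} := rfl
  rw [h2] at h1
  have h3 : Nat.card {β : Ω | β ≠ ω} = Set.ncard {β : Ω | β ≠ ω} := rfl
  omega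

structure Dat (A : Type*) [Group A] [Finite A] (Ω : Type*) [MulAction A Ω] [Finite Ω] (I : Subgroup A) : Prop where
  normal : I.Normal
  cardI : Nat.card I = 126000
  index : I.index = 6
  cardΩ : Nat.card Ω = 126
  tr : ∀ ω ω' : Ω, ∃ g ∈ I, g • ω = ω'
  two : ∀ ω α β : Ω, α ≠ ω → β ≠ ω → ∃ g ∈ I, g • ω = ω ∧ g • α = β
  sol : ∀ M : Subgroup A, M ≤ I → Group.IsSolvable M → 7 ∣ Nat.card M → Nat.card M ∣ 21
  inv : ∀ τ : A, τ * τ = 1 → τ ∉ I → ∃ ω : Ω, τ • ω = ω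

namespace Dat

variable {I : Subgroup A}

/-- A subgroup of order `125` of `I` fixes a point and is transitive on the others. -/
theorem five (D : Dat A Ω I) {P : Subgroup A} (hPI : P ≤ I) (hP : Nat.card P = 125) :
    ∃ ω : Ω, (∀ s ∈ P, s • ω = ω) ∧ ∀ α β : Ω, α ≠ ω → β ≠ ω → ∃ s ∈ P, s • α = β := by
  have hf := Fact.mk (by norm_num : Nat.Prime 5)
  have hPp : IsPGroup 5 P := IsPGroup.of_card (n := 3) (by rw [hP]; norm_num)
  have h1 := hPp.card_modEq_card_fixedPoints Ω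
  rw [D.cardΩ] at h1
  obtain ⟨ω, hω⟩ : (fixedPoints ↥P Ω).Nonempty := by
    rw [Set.nonempty_iff_ne_empty]
    intro h0
    rw [h0] at h1
    have h2 : Nat.card (∅ : Set Ω) = 0 := by simp
    rw [h2] at h1
    exact absurd h1 (by decide)
  have hfix : ∀ s ∈ P, s • ω = ω := fun s hs => hω ⟨s, hs⟩
  refine ⟨ω, hfix, ?_⟩
  intro α β hα hβ
  -- the stabiliser of `ω`
  set B : Subgroup A := I ⊓ stabilizer A ω with hB
  have hBc : Nat.card B = 1000 := by
    have h2 := orb I ω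
    have h3 : {β : Ω | ∃ s ∈ I, s • ω = β} = Set.univ := by
      ext β
      simp only [Set.mem_ofPred_eq, Set.mem_univ, iff_true]
      exact D.tr ω β
    have h4 : Nat.card (Set.univ : Set Ω) = 126 := by rw [Nat.card_univ, D.cardΩ]
    rw [h3, h4, D.cardI, ← hB] at h2
    omega
  have hBα : Nat.card ↥(B ⊓ stabilizer A α) = 8 := by
    have h2 := orb B α
    have h3 : {β : Ω | ∃ s ∈ B, s • α = β} = {β : Ω | β ≠ ω} := by
      ext β
      constructor
      · rintro ⟨s, hs, rfl⟩ h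
        apply hα
        have h5 : s • ω = ω := hs.2
        rw [← h5] at h
        exact MulAction.injective s h
      · intro hβ
        obtain ⟨g, hg, h5, h6⟩ := D.two ω α β hα hβ
        exact ⟨g, ⟨hg, h5⟩, h6⟩
    rw [h3, card_ne D.cardΩ, hBc] at h2
    omega
  have hPB : P ≤ B := fun s hs => ⟨hPI hs, hfix s hs⟩
  have hPα : Nat.card ↥(P ⊓ stabilizer A α) = 1 := by
    have h2 : Nat.card ↥(P ⊓ stabilizer A α) ∣ 8 := by
      rw [← hBα]
      exact Subgroup.card_dvd_of_le (inf_le_inf_right _ hPB)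
    have h3 : Nat.card ↥(P ⊓ stabilizer A α) ∣ 125 := by
      rw [← hP]
      exact Subgroup.card_dvd_of_le inf_le_left
    have h4 := Nat.dvd_gcd h2 h3
    rw [show Nat.gcd 8 125 = 1 by norm_num] at h4
    exact Nat.dvd_one.1 h4
  have hsub : {β : Ω | ∃ s ∈ P, s • α = β} ⊆ {β : Ω | β ≠ ω} := by
    rintro _ ⟨s, hs, rfl⟩ h
    apply hα
    have h5 := hfix s hs
    rw [← h5] at h
    exact MulAction.injective s h
  have hcard := orb P α
  rw [hPα, mul_one, hP] at hcard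
  have heq : {β : Ω | ∃ s ∈ P, s • α = β} = {β : Ω | β ≠ ω} := by
    apply Set.eq_of_subset_of_ncard_le hsub _ (Set.toFinite _)
    show Nat.card {β : Ω | β ≠ ω} ≤ Nat.card {β : Ω | ∃ s ∈ P, s • α = β}
    rw [hcard, card_ne D.cardΩ]
  have : β ∈ {β : Ω | ∃ s ∈ P, s • α = β} := by rw [heq]; exact hβ
  exact this

/-- Subgroups of `I` of order divisible by `125` and not by `7` fix exactly one point. -/
theorem unique_fix (D : Dat A Ω I) {S : Subgroup A} (hSI : S ≤ I) (h125 : 125 ∣ Nat.card S) (h7 : ¬ 7 ∣ Nat.card S) :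
    ∃ ω : Ω, (∀ s ∈ S, s • ω = ω) ∧ ∀ ω' : Ω, (∀ s ∈ S, s • ω' = ω') → ω' = ω := by
  have hf := Fact.mk (by norm_num : Nat.Prime 5)
  obtain ⟨P0, hP0⟩ := Sylow.exists_subgroup_card_pow_prime (G := S) 5 (n := 3) (by norm_num; exact h125)
  set P : Subgroup A := P0.map S.subtype with hP
  have hPc : Nat.card P = 125 := by
    rw [hP, Subgroup.card_map_of_injective S.subtype_injective, hP0]; norm_num
  have hPS : P ≤ S := by
    rintro _ ⟨s, -, rfl⟩
    exact s.2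
  obtain ⟨ω, hω, htr⟩ := D.five (hPS.trans hSI) hPc
  have hne : ∀ α : Ω, ∃ β : Ω, β ≠ α := by
    intro α
    by_contra hcon
    push Not at hcon
    have h1 := card_ne D.cardΩ α
    have h2 : {β : Ω | β ≠ α} = ∅ := by
      ext β
      simp [hcon β]
    rw [h2] at h1
    simp at h1
  have huniq : ∀ ω' : Ω, (∀ s ∈ S, s • ω' = ω') → ω' = ω := by
    intro ω' h'
    by_contra hne'
    -- there is a third point
    obtain ⟨β, hβω, hβ⟩ : ∃ β : Ω, β ≠ ω ∧ β ≠ ω' := by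
      by_contra hcon
      push Not at hcon
      have h1 := card_ne D.cardΩ ω
      have h2 : {β : Ω | β ≠ ω} = {ω'} := by
        ext β
        constructor
        · intro hβ; exact hcon β hβ
        · rintro rfl; exact hne'
      rw [h2] at h1
      simp at h1
    obtain ⟨s, hs, h3⟩ := htr ω' β hne' hβω
    rw [h' s (hPS hs)] at h3
    exact hβ h3.symm
  refine ⟨ω, ?_, huniq⟩
  by_contra hcon
  push Not at hcon
  obtain ⟨s0, hs0, hsω⟩ := hcon
  have htrS : ∀ β : Ω, ∃ s ∈ S, s • ω = β := by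
    intro β
    by_cases hβ : β = ω
    · exact ⟨1, S.one_mem, by rw [hβ, one_smul]⟩
    · obtain ⟨t, ht, h3⟩ := htr (s0 • ω) β hsω hβ
      exact ⟨t * s0, S.mul_mem (hPS ht) hs0, by rw [mul_smul, h3]⟩
  have h2 := orb S ω
  have h3 : {β : Ω | ∃ s ∈ S, s • ω = β} = Set.univ := by
    ext β
    simp only [Set.mem_ofPred_eq, Set.mem_univ, iff_true]
    exact htrS β
  have h4 : Nat.card (Set.univ : Set Ω) = 126 := by rw [Nat.card_univ, D.cardΩ]
  rw [h3, h4] at h2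
  apply h7
  rw [← h2]
  exact Dvd.dvd.mul_right (by norm_num) _

theorem card_inf (D : Dat A Ω I) (H : Subgroup A) : ∃ h : ℕ, h ∣ 6 ∧ Nat.card H = Nat.card ↥(H ⊓ I) * h := by
  have := D.normal
  refine ⟨I.relIndex H, ?_, ?_⟩
  · have := Subgroup.relIndex_dvd_index_of_normal I H
    rwa [D.index] at this
  · have h1 := Subgroup.card_mul_index (I.subgroupOf H)
    have h3 : Nat.card ↥(I.subgroupOf H) = Nat.card ↥(H ⊓ I) := by
      rw [← Subgroup.card_map_of_injective H.subtype_injective, Subgroup.subgroupOf_map_subtype, inf_comm]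
    rw [h3] at h1
    exact h1.symm

theorem main_aux (D : Dat A Ω I) {G H K : Subgroup A} (hG : I ≤ G) (hH : H ≤ G) (hK : K ≤ G)
    (hHK : ∀ g ∈ G, ∃ h ∈ H, ∃ k ∈ K, g = h * k) (hHs : Group.IsSolvable H) (hKs : Group.IsSolvable K)
    (h7 : 7 ∣ Nat.card ↥(H ⊓ I)) : False := by
  have hIn := D.normal
  have hf5 : Nat.Prime 5 := by norm_num
  obtain ⟨h, hh6, hh⟩ := D.card_inf H
  obtain ⟨k, hk6, hk⟩ := D.card_inf K
  obtain ⟨x, -, hx⟩ := D.card_inf G
  have hGI : G ⊓ I = I := inf_eq_right.2 hG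
  rw [hGI, D.cardI] at hx
  have hfac := Cfsg.Agent.H176.NF.card_factor hH hK hHK
  have hHI := D.sol (H ⊓ I) inf_le_right (Cfsg.Agent.H176.NF.isSolvable_of_le inf_le_left hHs) h7
  have h125 : 125 ∣ Nat.card ↥(K ⊓ I) := by
    rw [hh, hk, hx] at hfac
    have h1 : 125 ∣ Nat.card ↥(K ⊓ I) * (Nat.card ↥(H ⊓ I) * h * k) := by
      refine ⟨1008 * x * Nat.card ↥(H ⊓ K), ?_⟩
      calc Nat.card ↥(K ⊓ I) * (Nat.card ↥(H ⊓ I) * h * k) = Nat.card ↥(H ⊓ I) * h * (Nat.card ↥(K ⊓ I) * k) := by ring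
        _ = _ := by rw [hfac]; ring
    have hco : Nat.Coprime 125 (Nat.card ↥(H ⊓ I) * h * k) := by
      have h2 : (Nat.card ↥(H ⊓ I) * h * k) ∣ 21 * 6 * 6 := mul_dvd_mul (mul_dvd_mul hHI hh6) hk6
      exact Nat.Coprime.coprime_dvd_right h2 (by norm_num)
    exact hco.dvd_of_dvd_mul_right h1
  have hK7 : ¬ 7 ∣ Nat.card ↥(K ⊓ I) := by
    intro h'
    have h1 := D.sol (K ⊓ I) inf_le_right (Cfsg.Agent.H176.NF.isSolvable_of_le inf_le_left hKs) h'
    have h2 := h125.trans h1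
    norm_num at h2
  obtain ⟨ω, hω, huniq⟩ := D.unique_fix inf_le_right h125 hK7
  -- `K` fixes `ω`
  have hKω : ∀ k ∈ K, k • ω = ω := by
    intro k hk
    apply huniq
    intro s hs
    have h1 : k⁻¹ * s * k ∈ K ⊓ I := by
      refine ⟨K.mul_mem (K.mul_mem (K.inv_mem hk) hs.1) hk, ?_⟩
      have := hIn.conj_mem s hs.2 k⁻¹
      rwa [inv_inv] at this
    have h2 := hω _ h1
    have h3 : s • k • ω = k • (k⁻¹ * s * k) • ω := by
      rw [smul_smul, smul_smul]; congr 1; group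
    rw [h3, h2]
  -- `H` is transitive
  have hHtr : ∀ β : Ω, ∃ s ∈ H, s • ω = β := by
    intro β
    obtain ⟨g, hg, hgβ⟩ := D.tr ω β
    obtain ⟨a, ha, b, hb, hab⟩ := hHK g (hG hg)
    refine ⟨a, ha, ?_⟩
    rw [← hgβ, hab, mul_smul, hKω b hb]
  have hall : ∀ α : Ω, {β : Ω | ∃ s ∈ H, s • α = β} = Set.univ := by
    intro α
    ext β
    simp only [Set.mem_ofPred_eq, Set.mem_univ, iff_true]
    obtain ⟨a, ha, h1⟩ := hHtr α
    obtain ⟨b, hb, h2⟩ := hHtr β
    refine ⟨b * a⁻¹, H.mul_mem hb (H.inv_mem ha), ?_⟩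
    rw [← h1, mul_smul, inv_smul_smul, h2]
  have h4 : Nat.card (Set.univ : Set Ω) = 126 := by rw [Nat.card_univ, D.cardΩ]
  have hHd : Nat.card H ∣ 126 := by
    rw [hh]
    exact mul_dvd_mul hHI hh6
  have hHc : Nat.card H = 126 := by
    apply Nat.dvd_antisymm hHd
    have h2 := orb H ω
    rw [hall, h4] at h2
    exact ⟨_, h2.symm⟩
  have hstab : ∀ α : Ω, Nat.card ↥(H ⊓ stabilizer A α) = 1 := by
    intro α
    have h2 := orb H α
    rw [hall, h4, hHc] at h2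
    omega
  have hf2 := Fact.mk Nat.prime_two
  obtain ⟨τ, hτ⟩ := exists_prime_orderOf_dvd_card' (G := H) 2 (by rw [hHc]; norm_num)
  have hτ2 : (τ : A) * τ = 1 := by
    have h1 : τ * τ = 1 := by rw [← pow_two, ← hτ]; exact pow_orderOf_eq_one τ
    exact congrArg Subtype.val h1
  have hτ1 : (τ : A) ≠ 1 := by
    intro h1
    have h2 : τ = 1 := Subtype.ext h1
    rw [h2, orderOf_one] at hτ
    norm_num at hτ
  have hτo : orderOf (τ : A) = 2 := by rw [Subgroup.orderOf_coe, hτ]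
  have hτI : (τ : A) ∉ I := by
    intro hmem
    have h1 : (τ : A) ∈ H ⊓ I := ⟨τ.2, hmem⟩
    have h2 : orderOf (⟨(τ : A), h1⟩ : ↥(H ⊓ I)) ∣ Nat.card ↥(H ⊓ I) := orderOf_dvd_natCard _
    rw [Subgroup.orderOf_mk, hτo] at h2
    have h3 := h2.trans hHI
    norm_num at h3
  obtain ⟨α, hα⟩ := D.inv τ hτ2 hτI
  have h1 : (τ : A) ∈ H ⊓ stabilizer A α := ⟨τ.2, hα⟩
  rw [Subgroup.card_eq_one.1 (hstab α), Subgroup.mem_bot] at h1
  exact hτ1 h1

theorem main (D : Dat A Ω I) {G H K : Subgroup A} (hG : I ≤ G) (hH : H ≤ G) (hK : K ≤ G)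
    (hHK : ∀ g ∈ G, ∃ h ∈ H, ∃ k ∈ K, g = h * k) (hHs : Group.IsSolvable H) (hKs : Group.IsSolvable K) : False := by
  obtain ⟨h, hh6, hh⟩ := D.card_inf H
  obtain ⟨k, hk6, hk⟩ := D.card_inf K
  obtain ⟨x, -, hx⟩ := D.card_inf G
  have hGI : G ⊓ I = I := inf_eq_right.2 hG
  rw [hGI, D.cardI] at hx
  have hfac := Cfsg.Agent.H176.NF.card_factor hH hK hHK
  rw [hh, hk, hx] at hfac
  have h7 : 7 ∣ Nat.card ↥(H ⊓ I) * h * (Nat.card ↥(K ⊓ I) * k) := by
    rw [hfac]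
    exact ⟨18000 * x * Nat.card ↥(H ⊓ K), by ring⟩
  have hp7 : Nat.Prime 7 := by norm_num
  have hn : ∀ m : ℕ, m ∣ 6 → ¬ 7 ∣ m := fun m hm h' => by
    have := h'.trans hm
    norm_num at this
  rcases (Nat.Prime.dvd_mul hp7).1 h7 with h1 | h1
  · rcases (Nat.Prime.dvd_mul hp7).1 h1 with h2 | h2
    · exact D.main_aux hG hH hK hHK hHs hKs h2
    · exact hn _ hh6 h2
  · rcases (Nat.Prime.dvd_mul hp7).1 h1 with h2 | h2
    · refine D.main_aux hG hK hH ?_ hKs hHs h2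
      intro g hg
      obtain ⟨a, ha, b, hb, hab⟩ := hHK g⁻¹ (G.inv_mem hg)
      refine ⟨b⁻¹, K.inv_mem hb, a⁻¹, H.inv_mem ha, ?_⟩
      rw [← mul_inv_rev, ← hab, inv_inv]
    · exact hn _ hk6 h2

end Dat

end Cfsg.Agent.H450.NF
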