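import Cfsg.Agent.H450.NF.Inv
import Cfsg.Agent.H450.NF.Act
import Cfsg.Agent.H450.GenU.Frame
import Cfsg.Agent.H667.TwoPSUModel
import Cfsg.Agent.S0815
import Cfsg.Agent.S0283
import Cfsg.Agent.H198.NFCrit
import Cfsg.Agent.H484.SylNorm

/-!
# Almost simple groups with socle `PSU₃(5)` are not products of two solvable subgroups (helper450, for S5773)
-/

set_option autoImplicit false

namespace Cfsg.Agent.H450.NF

open Cfsg Cfsg.Agent.LieClassical.HermBasic Cfsg.Agent.LieClassical.HermSiegel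
  Cfsg.Agent.LieClassical.HermGen Cfsg.Agent.LieClassical.SUBasic
  Cfsg.Agent.ClassicalGeometry.PSUAutCount Cfsg.Agent.ClassicalGeometry.UnitAutBasic Matrix
open Cfsg.Agent.ClassicalGeometry.PSUAutSylow (RR RR_le RR_eq_iff)
open Cfsg.Agent.H903.SylSemi Cfsg.Agent.H177.MeetPSU Cfsg.Agent.H450.GenU
open Cfsg.Agent.H667.TwoPSUModel (ZZ ZZ_map card_ZZ ZZ_conj RR_mem_ZZ RR_map_conj)

variable {F : Type} [Field F] [Fintype F]

/-- The action of the automorphism group on the points. -/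
@[reducible] def act126 (hF : Fintype.card F = 5 ^ 2) :
    MulAction (MulAut (Cfsg.PSU 3 F 5)) {Z : Subgroup (Cfsg.PSU 3 F 5) // Z ∈ ZZ hF 3} where
  smul α Z := ⟨Z.1.map (α : Cfsg.PSU 3 F 5 →* Cfsg.PSU 3 F 5), ZZ_map hF le_rfl α Z.1 Z.2⟩
  one_smul Z := by
    apply Subtype.ext
    change Z.1.map _ = Z.1
    ext x
    constructor
    · rintro ⟨y, hy, rfl⟩
      exact hy
    · intro hx
      exact ⟨x, hx, rfl⟩
  mul_smul α β Z := by
    apply Subtype.ext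
    change Z.1.map _ = (Z.1.map _).map _
    rw [Subgroup.map_map]
    rfl

/-- Orthogonal isotropic vectors are proportional. -/
theorem prop_of_orth (hF : Fintype.card F = 5 ^ 2) {u x : Fin 3 → F} (hu0 : u ≠ 0) (hx0 : x ≠ 0)
    (hu : hermForm 3 F 5 u u = 0) (hx : hermForm 3 F 5 x x = 0) (hxu : hermForm 3 F 5 x u = 0) :
    ∃ c : F, c ≠ 0 ∧ x = c • u := by
  obtain ⟨e, f, d, B⟩ := exists_fr (q := 5) hF
  have he0 : e ≠ 0 := by
    intro h0
    have := B.ef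
    rw [h0, herm_zero_left] at this
    exact zero_ne_one this
  obtain ⟨g, -, hg⟩ := exists_map_iso hF le_rfl le_rfl (mem_coordSub_top u) (mem_coordSub_top e) hu0 he0 hu B.ee
  set y := act g x with hy
  have hyy : hermForm 3 F 5 y y = 0 := by rw [hy, herm_act, hx]
  have hye : hermForm 3 F 5 y e = 0 := by rw [hy, ← hg, herm_act, hxu]
  have h1 := B.expand y
  rw [hye, zero_smul, add_zero] at h1
  have h2 : hermForm 3 F 5 y d = 0 := by
    have h3 := B.herm hF (hermForm 3 F 5 y f) 0 (hermForm 3 F 5 y d) (hermForm 3 F 5 y f) 0 (hermForm 3 F 5 y d)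
    rw [zero_smul, add_zero, ← h1, hyy] at h3
    have h4 : hermForm 3 F 5 y d ^ 6 = 0 := by linear_combination -h3
    exact pow_eq_zero_iff (by norm_num) |>.1 h4
  rw [h2, zero_smul, add_zero] at h1
  refine ⟨hermForm 3 F 5 y f, ?_, ?_⟩
  · intro h0
    rw [h0, zero_smul] at h1
    apply hx0
    have h5 : act g⁻¹ y = x := by rw [hy, ← act_mul, inv_mul_cancel, act_one]
    rw [← h5, h1]
    exact act_zero _
  · have h5 : act g⁻¹ y = x := by rw [hy, ← act_mul, inv_mul_cancel, act_one]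
    have h6 : act g⁻¹ e = u := by rw [← hg, ← act_mul, inv_mul_cancel, act_one]
    conv_lhs => rw [← h5, h1]
    rw [act_smul, h6]

/-- 2-transitivity on the points. -/
theorem two_trans (hF : Fintype.card F = 5 ^ 2) {W X Y : Subgroup (Cfsg.PSU 3 F 5)} (hW : W ∈ ZZ hF 3)
    (hX : X ∈ ZZ hF 3) (hY : Y ∈ ZZ hF 3) (hXW : X ≠ W) (hYW : Y ≠ W) :
    ∃ g : Cfsg.PSU 3 F 5, W.map (MulAut.conj g).toMonoidHom = W ∧ X.map (MulAut.conj g).toMonoidHom = Y := by
  obtain ⟨u, hu0, hu, rfl⟩ := hW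
  have key : ∀ X : Subgroup (Cfsg.PSU 3 F 5), X ∈ ZZ hF 3 → X ≠ RR hF u hu →
      ∃ (x : Fin 3 → F) (_ : x ≠ 0) (hx : hermForm 3 F 5 x x = 0), X = RR hF x hx ∧ hermForm 3 F 5 u x = 1 := by
    rintro _ ⟨x, hx0, hx, rfl⟩ hne
    have h1 : hermForm 3 F 5 x u ≠ 0 := by
      intro h0
      obtain ⟨c, hc0, rfl⟩ := prop_of_orth hF hu0 hx0 hu hx h0
      exact hne (RR_le hF hu hc0 hx)
    have h2 : hermForm 3 F 5 u x ≠ 0 := by
      intro h0
      exact h1 (herm_eq_zero_swap hF h0)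
    obtain ⟨c, hc⟩ : ∃ c : F, c = ((hermForm 3 F 5 u x)⁻¹) ^ 5 := ⟨_, rfl⟩
    have hc0 : c ≠ 0 := by rw [hc]; exact pow_ne_zero _ (inv_ne_zero h2)
    have hcx : hermForm 3 F 5 (c • x) (c • x) = 0 := by
      rw [herm_smul_left, herm_smul_right, hx]; ring
    refine ⟨c • x, smul_ne_zero hc0 hx0, hcx, (RR_le hF hx hc0 hcx).symm, ?_⟩
    rw [herm_smul_right, hc, pow_q_pow_q hF, inv_mul_cancel₀ h2]
  obtain ⟨x, hx0, hx, rfl, hux⟩ := key X hX hXW
  obtain ⟨y, hy0, hy, rfl, huy⟩ := key Y hY hYW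
  obtain ⟨g, -, hgu, hgx⟩ := exists_map_hyp hF le_rfl le_rfl (mem_coordSub_top u) (mem_coordSub_top x)
    (mem_coordSub_top u) (mem_coordSub_top y) hu hx hux hu hy huy
  have hgu' : hermForm 3 F 5 (act g u) (act g u) = 0 := by rw [hgu]; exact hu
  have hgx' : hermForm 3 F 5 (act g x) (act g x) = 0 := by rw [hgx]; exact hy
  refine ⟨ClassicalGeometry.PSUAutBasic.pr 3 F 5 g, ?_, ?_⟩
  · rw [RR_map_conj hF hu g hgu']
    exact ClassicalGeometry.PSUAutSylow.RR_congr hF _ _ hgu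
  · rw [RR_map_conj hF hx g hgx']
    exact ClassicalGeometry.PSUAutSylow.RR_congr hF _ _ hgx

theorem finite_psu (hF : Fintype.card F = 5 ^ 2) : Finite (Cfsg.PSU 3 F 5) :=
  Nat.finite_of_card_ne_zero (by rw [card_psu hF]; norm_num)

theorem center_psu (hF : Fintype.card F = 5 ^ 2) : Subgroup.center (Cfsg.PSU 3 F 5) = ⊥ := by
  have := finite_psu hF
  have hs : IsSimpleGroup (Cfsg.PSU 3 F 5) := Cfsg.Agent.S0283.result hF 3 le_rfl (by omega)
  exact Cfsg.Agent.H198.NFC.center_eq_bot_of_two Nat.prime_two Nat.prime_three (by norm_num)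
    (by rw [card_psu hF]; norm_num) (by rw [card_psu hF]; norm_num)

theorem dat (hF : Fintype.card F = 5 ^ 2) [Finite (MulAut (Cfsg.PSU 3 F 5))]
    [Finite {Z : Subgroup (Cfsg.PSU 3 F 5) // Z ∈ ZZ hF 3}] :
    @Dat (MulAut (Cfsg.PSU 3 F 5)) _ _ {Z : Subgroup (Cfsg.PSU 3 F 5) // Z ∈ ZZ hF 3} (act126 hF) _
      (MulAut.conj : Cfsg.PSU 3 F 5 →* MulAut (Cfsg.PSU 3 F 5)).range := by
  have hfin := finite_psu hF
  have hc := center_psu hF
  have hinj := Cfsg.Agent.H198.NFC.conj_injective hc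
  let _ := act126 hF
  have hcard : Nat.card (MulAut.conj : Cfsg.PSU 3 F 5 →* MulAut (Cfsg.PSU 3 F 5)).range = 126000 := by
    rw [← card_psu hF]
    exact (Nat.card_congr (MonoidHom.ofInjective hinj).toEquiv).symm
  have h5 : Fact (Nat.Prime 5) := ⟨by norm_num⟩
  refine
    { normal := Cfsg.Agent.H176.NF.range_conj_normal
      cardI := hcard
      index := ?_
      cardΩ := ?_
      tr := ?_
      two := ?_
      sol := ?_
      inv := ?_ }
  · apply Cfsg.Agent.H484.SylNorm.index_of_card hc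
    have := Cfsg.Agent.S0815.result (F := F) 5 1 le_rfl (q := 5) (by norm_num) hF 3 le_rfl (by omega)
    rw [this]
    norm_num
  · have h1 := card_ZZ (n := 3) hF le_rfl
    have h2 : Nat.card {Z : Subgroup (Cfsg.PSU 3 F 5) // Z ∈ ZZ hF 3} = Nat.card (ZZ hF 3) := rfl
    rw [h2]
    have h3 : (Nat.card (ZZ hF 3) : ℤ) = 126 := by
      have h4 : (Nat.card (ZZ hF 3) : ℤ) * 24 = 126 * 24 := by
        have h5 : (((5 : ℕ) : ℤ) ^ 2 - 1) = 24 := by norm_num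
        have h6 : (((5 : ℕ) : ℤ) ^ 3 - (-1) ^ 3) * (((5 : ℕ) : ℤ) ^ (3 - 1) + (-1) ^ 3) = 126 * 24 := by norm_num
        rw [h5, h6] at h1
        exact h1
      omega
    exact_mod_cast h3
  · rintro ⟨Z, hZ⟩ ⟨Z', hZ'⟩
    obtain ⟨g, hg⟩ := ZZ_conj hF le_rfl Z hZ Z' hZ'
    exact ⟨MulAut.conj g, ⟨g, rfl⟩, Subtype.ext hg⟩
  · rintro ⟨W, hW⟩ ⟨X, hX⟩ ⟨Y, hY⟩ hXW hYW
    obtain ⟨g, h1, h2⟩ := two_trans hF hW hX hY (fun h => hXW (Subtype.ext h)) (fun h => hYW (Subtype.ext h))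
    exact ⟨MulAut.conj g, ⟨g, rfl⟩, Subtype.ext h1, Subtype.ext h2⟩
  · intro M hM hs h7
    have h1 : (M.comap (MulAut.conj : Cfsg.PSU 3 F 5 →* MulAut (Cfsg.PSU 3 F 5))).map MulAut.conj = M := by
      rw [Subgroup.map_comap_eq, inf_eq_right.2 hM]
    have h2 : Nat.card (M.comap (MulAut.conj : Cfsg.PSU 3 F 5 →* MulAut (Cfsg.PSU 3 F 5))) = Nat.card M := by
      conv_rhs => rw [← h1]
      rw [Subgroup.card_map_of_injective hinj]
    rw [← h2] at h7 ⊢
    exact card_dvd hF (Cfsg.Agent.H176.NF.isSolvable_comap _ hinj hs) h7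
  · intro τ hτ hτI
    rcases fix_point hF hτ with ⟨x, rfl⟩ | ⟨u, hu0, hu, h1⟩
    · exact absurd ⟨x, rfl⟩ hτI
    · exact ⟨⟨RR hF u hu, RR_mem_ZZ hF hu0 hu⟩, Subtype.ext h1⟩

/-- **NF for `PSU₃(5)`.** -/
theorem psu3_five (F : Type) [Field F] [Fintype F] (hF : Fintype.card F = 5 ^ 2) :
    Cfsg.Agent.H176.NF.NF (Cfsg.PSU 3 F 5) := by
  have := finite_psu hF
  intro G H K hG hH hK hHK hHs hKs
  let _ := act126 hF
  exact (dat hF).main hG hH hK hHK hHs hKs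

end Cfsg.Agent.H450.NF
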