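import Cfsg.Agent.H450.GenU.Semi
import Cfsg.Agent.H450.NF.Local

/-!
# Involutory automorphisms of `PSU₃(5)` (helper450, for S5773)

`fix_point`: an automorphism of `PSU₃(5)` of square `1` is inner or fixes an isotropic point.
-/

set_option autoImplicit false

namespace Cfsg.Agent.H450.NF

open Cfsg Cfsg.Agent.LieClassical.HermBasic Cfsg.Agent.LieClassical.HermSiegel
  Cfsg.Agent.LieClassical.HermGen Cfsg.Agent.LieClassical.SUBasic
  Cfsg.Agent.ClassicalGeometry.PSUAutCount Cfsg.Agent.ClassicalGeometry.UnitAutBasic Matrix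
open Cfsg.Agent.ClassicalGeometry.PSUAutSylow (RR RR_le)
open Cfsg.Agent.H903.SylSemi Cfsg.Agent.H177.MeetPSU Cfsg.Agent.H450.GenU

variable {F : Type} [Field F] [Fintype F]

theorem five (hF : Fintype.card F = 5 ^ 2) : (5 : F) = 0 := by
  have := charP hF
  exact_mod_cast CharP.cast_eq_zero F 5

/-- The prime field. -/
theorem exists_cast (hF : Fintype.card F = 5 ^ 2) {x : F} (hx : x ^ 5 = x) : ∃ k : ℕ, k < 5 ∧ x = k := by
  have h5 := five hF
  have h : x * (x - 1) * (x - 2) * (x - 3) * (x - 4) = 0 := by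
    linear_combination hx + (-2 * x ^ 4 + 7 * x ^ 3 - 10 * x ^ 2 + 5 * x) * h5
  rcases mul_eq_zero.1 h with h | h
  · rcases mul_eq_zero.1 h with h | h
    · rcases mul_eq_zero.1 h with h | h
      · rcases mul_eq_zero.1 h with h | h
        · exact ⟨0, by norm_num, by rw [h]; norm_num⟩
        · exact ⟨1, by norm_num, by rw [sub_eq_zero.1 h]; norm_num⟩
      · exact ⟨2, by norm_num, by rw [sub_eq_zero.1 h]; norm_num⟩
    · exact ⟨3, by norm_num, by rw [sub_eq_zero.1 h]; norm_num⟩
  · exact ⟨4, by norm_num, by rw [sub_eq_zero.1 h]; norm_num⟩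

/-- The nontrivial field automorphism. -/
theorem eq_frob (hF : Fintype.card F = 5 ^ 2) {ρ : F ≃+* F} (hρ : ρ ≠ 1) (x : F) : ρ x = x ^ 5 := by
  have hfix : ∀ y : F, y ^ 5 = y → ρ y = y := by
    intro y hy
    obtain ⟨k, -, rfl⟩ := exists_cast hF hy
    exact map_natCast ρ k
  have hadd : ∀ a b : F, (a + b) ^ 5 = a ^ 5 + b ^ 5 := fun a b => add_pow_q hF a b
  have h25 : ∀ a : F, (a ^ 5) ^ 5 = a := fun a => pow_q_pow_q hF a
  have hor : ∀ y : F, ρ y = y ∨ ρ y = y ^ 5 := by
    intro y
    have h1 : ρ (y + y ^ 5) = y + y ^ 5 := hfix _ (by rw [hadd, h25, add_comm])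
    have h2 : ρ (y * y ^ 5) = y * y ^ 5 := hfix _ (by rw [mul_pow, h25, mul_comm])
    rw [map_add] at h1
    rw [map_mul] at h2
    have h3 : (ρ y - y) * (ρ y - y ^ 5) = 0 := by
      linear_combination (ρ y) * h1 - h2
    rcases mul_eq_zero.1 h3 with h | h
    · exact Or.inl (sub_eq_zero.1 h)
    · exact Or.inr (sub_eq_zero.1 h)
  obtain ⟨x0, hx0⟩ : ∃ x0, ρ x0 ≠ x0 := by
    by_contra hcon
    push Not at hcon
    exact hρ (RingEquiv.ext hcon)
  have hx0' := (hor x0).resolve_left hx0
  by_contra hne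
  have hx := (hor x).resolve_right hne
  rcases hor (x0 + x) with h | h
  · rw [map_add, hx] at h
    exact hx0 (add_right_cancel h)
  · rw [map_add, hx0', hadd] at h
    have := add_left_cancel h
    exact hne this

section iso

variable (V0 : AddSubgroup (Fin 3 → F))

/-- A large additive subgroup with values in the prime field: orthogonal complement of a vector. -/
theorem card_perp (hF : Fintype.card F = 5 ^ 2) (W : AddSubgroup (Fin 3 → F)) (v : Fin 3 → F)
    (hv : ∀ w ∈ W, (hermForm 3 F 5 w v) ^ 5 = hermForm 3 F 5 w v) :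
    ∃ W' : AddSubgroup (Fin 3 → F), W' ≤ W ∧ (∀ w ∈ W', hermForm 3 F 5 w v = 0) ∧
      Nat.card W ≤ 5 * Nat.card W' := by
  classical
  let f : W →+ F := AddMonoidHom.mk' (fun w => hermForm 3 F 5 w v) (fun a b => herm_add_left _ _ _)
  have hf : ∀ w : W, f w = hermForm 3 F 5 w v := fun _ => rfl
  refine ⟨f.ker.map W.subtype, ?_, ?_, ?_⟩
  · rintro _ ⟨w, -, rfl⟩
    exact w.2
  · rintro _ ⟨w, hw, rfl⟩
    exact hw
  · have h1 : Nat.card W = Nat.card f.range * Nat.card f.ker := by
      have h2 := AddSubgroup.card_mul_index f.ker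
      rw [AddSubgroup.index_ker] at h2
      rw [← h2, mul_comm]
    have h3 : Nat.card f.range ≤ 5 := by
      have h4 := card_fixed hF
      rw [← h4]
      refine Nat.card_le_card_of_injective
        (fun x : f.range => (⟨x.1, by obtain ⟨w, hw⟩ := x.2; rw [← hw, hf]; exact hv w w.2⟩ : {x : F // x ^ 5 = x})) ?_
      intro a b h
      exact Subtype.ext (congrArg (fun y : {x : F // x ^ 5 = x} => (y : F)) h)
    have h4 : Nat.card ↥(f.ker.map W.subtype) = Nat.card f.ker :=
      (Nat.card_congr (f.ker.equivMapOfInjective W.subtype W.subtype_injective).toEquiv).symm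
    rw [h1, h4]
    exact Nat.mul_le_mul_right _ h3

omit [Fintype F] in
theorem exists_ne (W : AddSubgroup (Fin 3 → F)) (h : 2 ≤ Nat.card W) : ∃ w ∈ W, w ≠ 0 := by
  by_contra hcon
  push Not at hcon
  have : W = ⊥ := (AddSubgroup.eq_bot_iff_forall W).2 hcon
  rw [this] at h
  simp at h

theorem num : ∀ a b c : ZMod 5, ∃ x y z : ZMod 5, (x ≠ 0 ∨ y ≠ 0 ∨ z ≠ 0) ∧ a * x ^ 2 + b * y ^ 2 + c * z ^ 2 = 0 := by
  decide +kernel

/-- An additive group of order `≥ 125` on which the form is symmetric with values in the prime field contains an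
isotropic vector. -/
theorem exists_iso (hF : Fintype.card F = 5 ^ 2) (hc : 125 ≤ Nat.card V0)
    (hval : ∀ u ∈ V0, ∀ v ∈ V0, (hermForm 3 F 5 u v) ^ 5 = hermForm 3 F 5 u v) :
    ∃ v ∈ V0, v ≠ 0 ∧ hermForm 3 F 5 v v = 0 := by
  by_contra hcon
  push Not at hcon
  have h5 := five hF
  have hchar := charP hF
  obtain ⟨v1, hv1, h10⟩ := exists_ne V0 (by omega)
  obtain ⟨W1, hW1, hp1, hc1⟩ := card_perp hF V0 v1 (fun w hw => hval w hw v1 hv1)
  obtain ⟨v2, hv2, h20⟩ := exists_ne W1 (by omega)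
  obtain ⟨W2, hW2, hp2, hc2⟩ := card_perp hF W1 v2 (fun w hw => hval w (hW1 hw) v2 (hW1 hv2))
  obtain ⟨v3, hv3, h30⟩ := exists_ne W2 (by omega)
  have m2 := hW1 hv2
  have m3 := hW1 (hW2 hv3)
  have e21 := hp1 v2 hv2
  have e31 := hp1 v3 (hW2 hv3)
  have e32 := hp2 v3 hv3
  have e12 : hermForm 3 F 5 v1 v2 = 0 := herm_eq_zero_swap hF e21
  have e13 : hermForm 3 F 5 v1 v3 = 0 := herm_eq_zero_swap hF e31
  have e23 : hermForm 3 F 5 v2 v3 = 0 := herm_eq_zero_swap hF e32
  obtain ⟨a, -, ha⟩ := exists_cast hF (herm_self_pow hF v1)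
  obtain ⟨b, -, hb⟩ := exists_cast hF (herm_self_pow hF v2)
  obtain ⟨c, -, hc'⟩ := exists_cast hF (herm_self_pow hF v3)
  obtain ⟨x, y, z, hne, hsum⟩ := num a b c
  -- the natural numbers
  set X : ℕ := x.val
  set Y : ℕ := y.val
  set Z : ℕ := z.val
  have hX : ((X : ℕ) : ZMod 5) = x := ZMod.natCast_zmod_val x
  have hY : ((Y : ℕ) : ZMod 5) = y := ZMod.natCast_zmod_val y
  have hZ : ((Z : ℕ) : ZMod 5) = z := ZMod.natCast_zmod_val z
  have hsumF : (a : F) * (X : F) ^ 2 + b * (Y : F) ^ 2 + c * (Z : F) ^ 2 = 0 := by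
    rw [← hX, ← hY, ← hZ] at hsum
    have h1 : ((a * X ^ 2 + b * Y ^ 2 + c * Z ^ 2 : ℕ) : ZMod 5) = 0 := by
      push_cast
      exact hsum
    rw [ZMod.natCast_eq_zero_iff] at h1
    have h2 : ((a * X ^ 2 + b * Y ^ 2 + c * Z ^ 2 : ℕ) : F) = 0 := (CharP.cast_eq_zero_iff F 5 _).2 h1
    push_cast at h2
    exact h2
  have hpow : ∀ m : ℕ, ((m : F)) ^ 5 = m := by
    intro m
    have hf := Fact.mk (by norm_num : Nat.Prime 5)
    have h1 : frobenius F 5 (m : F) = m := map_natCast _ m
    rwa [frobenius_def] at h1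
  set v : Fin 3 → F := (X : F) • v1 + (Y : F) • v2 + (Z : F) • v3 with hv
  have hnat : ∀ (m : ℕ) (w : Fin 3 → F), (m : F) • w = m • w := fun m w => Nat.cast_smul_eq_nsmul F m w
  have hvm : v ∈ V0 := by
    rw [hv, hnat, hnat, hnat]
    exact V0.add_mem (V0.add_mem (V0.nsmul_mem hv1 _) (V0.nsmul_mem m2 _)) (V0.nsmul_mem m3 _)
  have hvv : hermForm 3 F 5 v v = 0 := by
    rw [hv]
    simp only [herm_add_left, herm_add_right hF, herm_smul_left, herm_smul_right, e12, e13, e21, e23, e31, e32, ha,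
      hb, hc', hpow]
    linear_combination hsumF
  have hv0 : v ≠ 0 := by
    intro h0
    have i1 : (X : F) * a = 0 := by
      have : hermForm 3 F 5 v v1 = 0 := by rw [h0, herm_zero_left]
      rw [hv] at this
      simpa only [herm_add_left, herm_smul_left, e21, e31, ha, mul_zero, add_zero] using this
    have i2 : (Y : F) * b = 0 := by
      have : hermForm 3 F 5 v v2 = 0 := by rw [h0, herm_zero_left]
      rw [hv] at this
      simpa only [herm_add_left, herm_smul_left, e12, e32, hb, mul_zero, add_zero, zero_add] using this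
    have i3 : (Z : F) * c = 0 := by
      have : hermForm 3 F 5 v v3 = 0 := by rw [h0, herm_zero_left]
      rw [hv] at this
      simpa only [herm_add_left, herm_smul_left, e13, e23, hc', mul_zero, add_zero, zero_add] using this
    have n1 : (a : F) ≠ 0 := by rw [← ha]; exact hcon v1 hv1 h10
    have n2 : (b : F) ≠ 0 := by rw [← hb]; exact hcon v2 m2 h20
    have n3 : (c : F) ≠ 0 := by rw [← hc']; exact hcon v3 m3 h30
    have key : ∀ (m : ZMod 5) (t : F), t ≠ 0 → ((m.val : ℕ) : F) * t = 0 → m = 0 := by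
      intro m t ht hm
      have h1 := (mul_eq_zero.1 hm).resolve_right ht
      rw [CharP.cast_eq_zero_iff F 5] at h1
      rw [← ZMod.natCast_zmod_val m, ZMod.natCast_eq_zero_iff]
      exact h1
    rcases hne with h | h | h
    · exact h (key x _ n1 i1)
    · exact h (key y _ n2 i2)
    · exact h (key z _ n3 i3)
  exact hcon v hvm hv0 hvv

end iso

omit [Fintype F] in
theorem SI.semiU {ρ : F ≃+* F} {y : Equiv.Perm (Fin 3 → F)} (h : SI 3 5 ρ y) : SemiU F 3 5 y :=
  ⟨ρ, 1, one_ne_zero, h.1, fun u v => by rw [h.herm, one_mul]⟩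

/-- The fixed vectors of an involutory semi-isometry. -/
theorem exists_iso_fix (hF : Fintype.card F = 5 ^ 2) {ρ : F ≃+* F} (hρ : ∀ x, ρ x = x ^ 5)
    {y : Equiv.Perm (Fin 3 → F)} (hy : SI 3 5 ρ y) (h2 : ∀ v, y (y v) = v) :
    ∃ v, v ≠ 0 ∧ hermForm 3 F 5 v v = 0 ∧ y v = v := by
  classical
  have hneg : ∀ v, y (-v) = - y v := by
    intro v
    have := hy.smul (-1) v
    have h1 : ρ (-1) = -1 := by rw [map_neg, map_one]
    rwa [h1, neg_one_smul, neg_one_smul] at this
  have hz : y 0 = 0 := by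
    have := hy.smul 0 0
    rwa [map_zero, zero_smul, zero_smul] at this
  let V0 : AddSubgroup (Fin 3 → F) :=
    { carrier := {v | y v = v}
      zero_mem' := hz
      add_mem' := fun {a b} (ha : y a = a) (hb : y b = b) => by
        show y (a + b) = a + b
        rw [hy.add, ha, hb]
      neg_mem' := fun {a} (ha : y a = a) => by
        show y (-a) = -a
        rw [hneg, ha] }
  have hV0 : ∀ v, v ∈ V0 ↔ y v = v := fun _ => Iff.rfl
  let tr : (Fin 3 → F) →+ (Fin 3 → F) := AddMonoidHom.mk' (fun v => v + y v) (fun a b => by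
    rw [hy.add]; abel)
  have htr : ∀ v, tr v = v + y v := fun _ => rfl
  have hrange : tr.range ≤ V0 := by
    rintro _ ⟨v, rfl⟩
    rw [hV0, htr, hy.add, h2, add_comm]
  obtain ⟨ε, hε0, hε⟩ := exists_trace_zero_ne hF
  have hρε : ρ ε = -ε := by
    rw [hρ]; linear_combination hε
  have hker : Nat.card tr.ker ≤ Nat.card V0 := by
    refine Nat.card_le_card_of_injective
      (fun v : tr.ker => (⟨ε • (v : Fin 3 → F), by
        have h1 : (v : Fin 3 → F) + y v = 0 := v.2
        rw [hV0, hy.smul, hρε, eq_neg_of_add_eq_zero_right h1, neg_smul, smul_neg, neg_neg]⟩ : V0)) ?_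
    intro a b h
    have h1 : ε • (a : Fin 3 → F) = ε • (b : Fin 3 → F) := congrArg Subtype.val h
    exact Subtype.ext (smul_right_injective _ hε0 h1)
  have hcard : Nat.card (Fin 3 → F) = 15625 := by
    rw [Nat.card_fun, Nat.card_eq_fintype_card, Nat.card_eq_fintype_card, hF, Fintype.card_fin]
    norm_num
  have h1 : Nat.card (Fin 3 → F) = Nat.card tr.range * Nat.card tr.ker := by
    have h2 := AddSubgroup.card_mul_index tr.ker
    rw [AddSubgroup.index_ker] at h2
    rw [← h2, mul_comm]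
  have h3 : Nat.card tr.range ≤ Nat.card V0 := Nat.card_mono (Set.toFinite _) hrange
  have h125 : 125 ≤ Nat.card V0 := by
    by_contra hlt
    push Not at hlt
    have h4 : Nat.card tr.range * Nat.card tr.ker ≤ 124 * 124 := Nat.mul_le_mul (by omega) (by omega)
    omega
  obtain ⟨v, hv, hv0, hvv⟩ := exists_iso V0 hF h125 (by
    intro u hu v hv
    have h4 := hy.herm u v
    rw [(hV0 u).1 hu, (hV0 v).1 hv, hρ] at h4
    exact h4.symm)
  exact ⟨v, hv0, hvv, hv⟩

/-- **Involutory automorphisms**: inner, or an isotropic point is fixed. -/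
theorem fix_point (hF : Fintype.card F = 5 ^ 2) {τ : MulAut (Cfsg.PSU 3 F 5)} (hτ : τ * τ = 1) :
    (∃ x, τ = MulAut.conj x) ∨ ∃ (u : Fin 3 → F) (_ : u ≠ 0) (hu : hermForm 3 F 5 u u = 0),
      (RR hF u hu).map (τ : Cfsg.PSU 3 F 5 →* Cfsg.PSU 3 F 5) = RR hF u hu := by
  obtain ⟨A, ρ, rfl⟩ := ClassicalGeometry.PSUAutMain.exists_toAut hF le_rfl (by omega) τ
  have hyI : SI 3 5 ρ (yy A ρ) := SI.yy A ρ
  have hind := ind_yy (q := 5) (n := 3) A ρ
  obtain ⟨y, hy⟩ : ∃ y, y = yy A ρ := ⟨_, rfl⟩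
  rw [← hy] at hyI hind
  have h2 : Ind (pr 3 F 5) (rho 3 F 5) (y * y) 1 := by
    rw [← hτ]; exact hind.mul hind
  have hyyI := hyI.mul hyI
  obtain ⟨a, ha⟩ := uniq hF le_rfl (SI.semiU hyyI) h2
  have hyy : ∀ v, y (y v) = (a : F) • v := fun v => by
    rw [← Equiv.Perm.mul_apply, ha, scal_apply]
  have ha0 : (a : F) ≠ 0 := a.ne_zero
  -- a vector of norm one
  obtain ⟨e, he⟩ : ∃ e : Fin 3 → F, hermForm 3 F 5 e e = 1 := by
    refine ⟨Pi.single 0 1, ?_⟩
    unfold hermForm
    rw [Finset.sum_eq_single (0 : Fin 3)]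
    · simp
    · intro b _ hb
      simp [hb]
    · intro h
      exact absurd (Finset.mem_univ _) h
  have he0 : e ≠ 0 := by
    rintro rfl
    rw [herm_zero_left] at he
    exact zero_ne_one he
  have hρρ : ∀ x, ρ (ρ x) = x := by
    intro x
    have h3 : y (y (x • e)) = x • (a : F) • e := by rw [hyy, smul_comm]
    rw [hyI.smul, hyI.smul, hyy] at h3
    have h4 : (ρ (ρ x) - x) • ((a : F) • e) = 0 := by rw [sub_smul, h3, sub_self]
    rcases smul_eq_zero.1 h4 with h | h
    · exact sub_eq_zero.1 h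
    · exact absurd h (smul_ne_zero ha0 he0)
  have haa : (a : F) * (a : F) ^ 5 = 1 := by
    have h3 : hermForm 3 F 5 (y (y e)) (y (y e)) = ρ (ρ (hermForm 3 F 5 e e)) := by rw [hyI.herm, hyI.herm]
    rw [hyy, herm_smul_left, herm_smul_right, he, hρρ, mul_one] at h3
    exact h3
  by_cases hρ1 : ρ = 1
  · -- linear case
    left
    subst hρ1
    obtain ⟨δ, hδ⟩ := Dt.exists hyI.1
    have hsi : Semi F y⁻¹ (1 : F ≃+* F) := by
      have h1 := hyI.inv.1
      rwa [inv_one] at h1
    have hδ0 := hδ.ne_zero hsi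
    have hδ6 : δ ^ (5 + 1) = 1 := hδ.norm hF hyI
    have hδ2 : δ * δ = (a : F) ^ 3 := by
      have h3 := hδ.mul hδ
      rw [ha] at h3
      refine h3.unique ?_
      refine ⟨(a : F) • LinearMap.id, fun v => rfl, ?_⟩
      rw [LinearMap.det_smul, LinearMap.det_id, mul_one]
      simp
    obtain ⟨c, hc⟩ : ∃ c : F, c = δ * (a : F)⁻¹ := ⟨_, rfl⟩
    have hc0 : c ≠ 0 := by rw [hc]; exact mul_ne_zero hδ0 (inv_ne_zero ha0)
    have hcn : c * c ^ 5 = 1 := by
      rw [hc, mul_pow, inv_pow]
      have h3 : (a : F) ^ 5 ≠ 0 := pow_ne_zero _ ha0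
      field_simp
      linear_combination hδ6 - haa
    have hc3 : c ^ 3 = δ := by
      rw [hc, mul_pow, inv_pow, ← hδ2]
      field_simp
    -- the scalar `c`
    have hsc : SI 3 5 (1 : F ≃+* F) (scal F (Fin 3 → F) (Units.mk0 c hc0)) := by
      refine ⟨⟨fun u v => ?_, fun b v => ?_⟩, fun u v => ?_⟩
      · rw [scal_apply, scal_apply, scal_apply, smul_add]
      · rw [scal_apply, scal_apply, smul_comm]
        rfl
      · rw [scal_apply, scal_apply, herm_smul_left, herm_smul_right, Units.val_mk0, ← mul_assoc, hcn, one_mul]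
        rfl
    have hscd : Dt (scal F (Fin 3 → F) (Units.mk0 c hc0)) (c ^ 3) := by
      refine ⟨c • LinearMap.id, fun v => rfl, ?_⟩
      rw [LinearMap.det_smul, LinearMap.det_id, mul_one]
      simp
    have hsci : Semi F (scal F (Fin 3 → F) (Units.mk0 c hc0))⁻¹ (1 : F ≃+* F) := by
      have h1 := hsc.inv.1
      rwa [inv_one] at h1
    have h3 : SI 3 5 (1 : F ≃+* F) (y * (scal F (Fin 3 → F) (Units.mk0 c hc0))⁻¹) := by
      have := hyI.mul hsc.inv
      rwa [inv_one, mul_one] at this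
    have h4 : Dt (y * (scal F (Fin 3 → F) (Units.mk0 c hc0))⁻¹) 1 := by
      have := hδ.mul (hscd.inv hsci)
      rwa [hc3, mul_inv_cancel₀ hδ0] at this
    obtain ⟨s, hs⟩ := exists_rho h3 h4
    refine ⟨pr 3 F 5 s, ?_⟩
    have h5 : Ind (pr 3 F 5) (rho 3 F 5) (rho 3 F 5 s) (toAut A 1 * 1⁻¹) := by
      rw [hs]
      exact hind.mul (ind_scal _).inv
    rw [inv_one, mul_one] at h5
    exact Ind.unique pr_surjective rho_injective h5 (Ind.conj _ _ s)
  · -- semilinear case
    right
    have hρ := eq_frob hF hρ1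
    obtain ⟨v, c, hv0, hvv, hc0, hyv⟩ : ∃ (v : Fin 3 → F) (c : F), v ≠ 0 ∧ hermForm 3 F 5 v v = 0 ∧ c ≠ 0 ∧
        y v = c • v := by
      -- `ρ a = a`
      have hρa : ρ (a : F) = a := by
        have h3 : y (y (y e)) = (a : F) • y e := hyy _
        rw [hyy e, hyI.smul] at h3
        have hye : y e ≠ 0 := by
          intro h
          have h4 := hyI.herm e e
          rw [h, herm_zero_left, he, map_one] at h4
          exact zero_ne_one h4
        have h4 : (ρ (a : F) - a) • y e = 0 := by rw [sub_smul, h3, sub_self]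
        rcases smul_eq_zero.1 h4 with h | h
        · exact sub_eq_zero.1 h
        · exact absurd h hye
      have ha2 : (a : F) * a = 1 := by
        rw [hρ] at hρa
        rw [hρa] at haa
        exact haa
      rcases mul_self_eq_one_iff.1 ha2 with h1 | h1
      · obtain ⟨v, h3, h4, h5⟩ := exists_iso_fix hF hρ hyI (fun v => by rw [hyy, h1, one_smul])
        exact ⟨v, 1, h3, h4, one_ne_zero, by rw [h5, one_smul]⟩
      · -- `a = -1`
        have hm1 : (-1 : F) ^ 5 = -1 := by norm_num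
        obtain ⟨c, hc0, hc⟩ := exists_norm_eq_ne hF hm1 (neg_ne_zero.2 one_ne_zero)
        have hci : -(c ^ 5) = c⁻¹ := by
          apply eq_inv_of_mul_eq_one_left
          linear_combination -hc
        obtain ⟨w, hw⟩ : ∃ w, w + c • y w ≠ 0 := by
          by_contra hcon
          push Not at hcon
          apply hρ1
          ext x
          have h3 : ∀ w, y w = -(c⁻¹ • w) := by
            intro w
            have h4 := hcon w
            have h5 : c • y w = -w := eq_neg_of_add_eq_zero_right h4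
            rw [← smul_neg, ← h5, inv_smul_smul₀ hc0]
          have h4 : ρ x • y e = x • y e := by
            rw [← hyI.smul, h3, h3, smul_neg, smul_comm]
          have hye : y e ≠ 0 := by
            rw [h3]
            exact neg_ne_zero.2 (smul_ne_zero (inv_ne_zero hc0) he0)
          have h5 : (ρ x - x) • y e = 0 := by rw [sub_smul, h4, sub_self]
          rcases smul_eq_zero.1 h5 with h | h
          · exact sub_eq_zero.1 h
          · exact absurd h hye
        have hyv : y (w + c • y w) = c⁻¹ • (w + c • y w) := by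
          rw [hyI.add, hyI.smul, hyy, h1, hρ, ← hci, smul_add, smul_smul, smul_smul]
          rw [add_comm]
          congr 1
          · congr 1; ring
          · have : -c ^ 5 * c = 1 := by linear_combination -hc
            rw [this, one_smul]
        refine ⟨w + c • y w, c⁻¹, hw, ?_, inv_ne_zero hc0, hyv⟩
        set v := w + c • y w with hv
        have h3 := hyI.herm v v
        rw [hyv, hρ, herm_self_pow hF, herm_smul_left, herm_smul_right] at h3
        have h4 : c⁻¹ * c⁻¹ ^ 5 = -1 := by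
          rw [inv_pow, ← mul_inv, hc]
          norm_num
        have h5 : -hermForm 3 F 5 v v = hermForm 3 F 5 v v := by
          linear_combination h3 - hermForm 3 F 5 v v * h4
        have h6 : (2 : F) * hermForm 3 F 5 v v = 0 := by linear_combination -h5
        have h2 : (2 : F) ≠ 0 := by
          intro h
          have h7 := five hF
          have : (1 : F) = 0 := by linear_combination h7 - 2 * h
          exact one_ne_zero this
        exact (mul_eq_zero.1 h6).resolve_left h2
    refine ⟨v, hv0, hvv, ?_⟩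
    have hcv : hermForm 3 F 5 (c • v) (c • v) = 0 := by
      rw [herm_smul_left, herm_smul_right, hvv]; ring
    have h3 : (gm A *ᵥ fun i => ρ (v i)) = c • v := by
      rw [← hyv, hy]; rfl
    have h4 := fun x => ClassicalGeometry.PSUAutMain.toAut_RR hF A ρ hvv hcv h3 x
    rw [RR_le hF hvv hc0 hcv] at h4
    ext x
    constructor
    · rintro ⟨z, hz, rfl⟩
      exact (h4 z).1 hz
    · intro hx
      refine ⟨(toAut A ρ).symm x, (h4 _).2 ?_, ?_⟩
      · rw [MulEquiv.apply_symm_apply]; exact hx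
      · exact MulEquiv.apply_symm_apply _ _

end Cfsg.Agent.H450.NF
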